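import Groth.Agent.Topos.H574.LimGen
import Groth.Agent.Etcore.LimEt

/-!
# The limit theorem for étale cohomology, for compatible systems of sheaves

`D : I ⥤ Scheme` a cofiltered diagram of qcqs schemes with affine transition maps, limit `S` with projections `p i`,
`F i` an abelian sheaf on `D i`, `F'` on `S`, with compatible morphisms `φ f : (D f)⁻¹ F_i ⟶ F_j`,
`φ' i : (p i)⁻¹ F_i ⟶ F'`. If the colimit statement holds on sections over all qcqs `U` étale over a stage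
(`Deg0Inj`, `Deg0Surj`), then it holds for cohomology in all degrees (`exists_hpThen_eq`, `exists_hpThen_eq_zero`).
-/

set_option autoImplicit false
universe u

open CategoryTheory CategoryTheory.Limits CategoryTheory.Abelian AlgebraicGeometry Opposite
open scoped Groth.Agent.Etcore.EtInst
open Groth.Agent Groth.Agent.Etcore

namespace Groth.Agent.Topos.H574.SysEt

open PullCoh EtZ LimDeg0 EtInst HpullCalc CurvesA
open Groth.Agent.Topos.H574.LimGen (LimSysG)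
open Groth.Agent.Etcore.LimData (FP)

variable {I : Type u} [SmallCategory I] {D : I ⥤ Scheme.{u}} {S : Scheme.{u}}

/-- A compatible system of abelian sheaves over a diagram of schemes and a cone over it. -/
structure Sys (p : ∀ i, S ⟶ D.obj i) (hp : ∀ {x y : I} (f : x ⟶ y), p x ≫ D.map f = p y) where
  F : ∀ i, EtCoh.Ab (D.obj i)
  F' : EtCoh.Ab S
  φ : ∀ {i j : I} (f : j ⟶ i), (EtCoh.pull (D.map f)).obj (F i) ⟶ F j
  φ' : ∀ i, (EtCoh.pull (p i)).obj (F i) ⟶ F'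
  comp : ∀ {i j k : I} (f : j ⟶ i) (g : k ⟶ j), (EtCoh.pull (D.map g)).map (φ f) ≫ φ g =
    th (D.map g) (D.map f) (D.map (g ≫ f)) (D.map_comp g f).symm (F i) ≫ φ (g ≫ f)
  comp' : ∀ {i j : I} (f : j ⟶ i), (EtCoh.pull (p j)).map (φ f) ≫ φ' j =
    th (p j) (D.map f) (p i) (hp f) (F i) ≫ φ' i

variable {p : ∀ i, S ⟶ D.obj i} {hp : ∀ {x y : I} (f : x ⟶ y), p x ≫ D.map f = p y}
  (L : Sys p hp)

/-- The system of categories of étale sheaves. -/
noncomputable def sys : LimSysG (fun i => EtCoh.Ab (D.obj i)) (EtCoh.Ab S) where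
  P f := EtCoh.pull (D.map f)
  Q i := EtCoh.pull (p i)
  addP f := inferInstance
  addQ i := inferInstance
  limP f := S0101.result _
  limQ i := S0101.result _
  colimP f := inferInstance
  colimQ i := inferInstance
  c f g M := asIso (th (D.map g) (D.map f) (D.map (g ≫ f)) (D.map_comp g f).symm M)
  c_nat f g _ _ φ := th_nat _ _ _ _ φ
  d f M := asIso (th (p _) (D.map f) (p _) (hp f) M)
  d_nat f _ _ φ := th_nat _ _ _ _ φ
  cd f g M := (th_assoc (p _) (D.map g) (D.map f) _ _ _ (hp g) _ (hp (g ≫ f)) (hp f) M).symm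
  G i := L.F i
  G' := L.F'
  θ f := L.φ f
  θ' i := L.φ' i
  θ_comp f g := L.comp f g
  θ'_comp f := L.comp' f

/-- Injectivity in degree zero. -/
def Deg0Inj : Prop := ∀ (i : I) (U : (D.obj i).Etale) (_ : CompactSpace U.left)
  (_ : QuasiSeparatedSpace U.left) (s : EtCoh.sect (L.F i) U),
    (L.φ' i).hom.app _ (eta (p i) _ U s) = 0 →
      ∃ (j : I) (f : j ⟶ i), (L.φ f).hom.app _ (eta (D.map f) _ U s) = 0

/-- Surjectivity in degree zero. -/
def Deg0Surj : Prop := ∀ (i : I) (U : (D.obj i).Etale) (_ : CompactSpace U.left)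
  (_ : QuasiSeparatedSpace U.left) (s : EtCoh.sect L.F' ((EtCoh.bc (p i)).obj U)),
    ∃ (j : I) (f : j ⟶ i) (s' : EtCoh.sect (L.F j) ((EtCoh.bc (D.map f)).obj U)),
      (L.φ' j).hom.app _ (eta (p j) _ _ s') =
        L.F'.obj.map (bcComp (p j) (D.map f) (p i) (hp f) U).op s

section Abs

universe w v u₁ u₀ v₀

variable {I : Type u₀} [Category.{v₀} I] {A : I → Type u₁} [∀ i, Category.{v} (A i)]
    [∀ i, Abelian (A i)] {B : Type u₁} [Category.{v} B] [Abelian B] (L : LimSysG A B)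
    [∀ i, HasExt.{w} (A i)] [HasExt.{w} B]

theorem R'_mk₀ {i : I} {M : A i} (φ : M ⟶ L.G i) :
    L.R' (Ext.mk₀ φ) = Ext.mk₀ ((L.Q i).map φ ≫ (L.θ' i)) := by
  rw [LimSysG.R', Ext.mapExactFunctor_mk₀, Ext.mk₀_comp_mk₀]

omit [HasExt.{w} B] in
theorem R_mk₀ {i j : I} (f : j ⟶ i) {M : A i} (φ : M ⟶ L.G i) :
    L.R f (Ext.mk₀ φ) = Ext.mk₀ ((L.P f).map φ ≫ (L.θ f)) := by
  rw [LimSysG.R, Ext.mapExactFunctor_mk₀, Ext.mk₀_comp_mk₀]

theorem inj_zero {i : I} {M : A i}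
    (h : ∀ φ : M ⟶ L.G i, (L.Q i).map φ ≫ (L.θ' i) = 0 →
      ∃ (j : I) (f : j ⟶ i), (L.P f).map φ ≫ (L.θ f) = 0) : L.Inj 0 i M := by
  intro x hx
  obtain ⟨φ, rfl⟩ := (Ext.mk₀_bijective _ _).2 x
  rw [R'_mk₀] at hx
  obtain ⟨j, f, hf⟩ := h φ ((Ext.mk₀_bijective _ _).1 (hx.trans (Ext.mk₀_zero _ _).symm))
  exact ⟨j, f, by rw [R_mk₀, hf, Ext.mk₀_zero]⟩

theorem surj_zero {i : I} {M : A i}
    (h : ∀ ψ : (L.Q i).obj M ⟶ L.G', ∃ (j : I) (f : j ⟶ i) (φ : (L.P f).obj M ⟶ L.G j),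
      (L.Q j).map φ ≫ (L.θ' j) = (L.d f M).hom ≫ ψ) : L.Surj 0 i M := by
  intro x
  obtain ⟨ψ, rfl⟩ := (Ext.mk₀_bijective _ _).2 x
  obtain ⟨j, f, φ, hφ⟩ := h ψ
  exact ⟨j, f, Ext.mk₀ φ, by rw [R'_mk₀, Ext.mk₀_comp_mk₀, hφ]⟩

variable (C : ∀ i, A i) (C' : B)
    (κ : ∀ {i j : I} (f : j ⟶ i), (L.P f).obj (C i) ≅ C j) (κ' : ∀ i, (L.Q i).obj (C i) ≅ C')

theorem R'_precomp {i : I} {M N : A i} (φ : M ⟶ N) {n : ℕ} (x : Ext N (L.G i) n) :
    L.R' ((Ext.mk₀ φ).comp x (zero_add n)) =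
      (Ext.mk₀ ((L.Q i).map φ)).comp (L.R' x) (zero_add n) := by
  rw [LimSysG.R', LimSysG.R', Ext.mapExactFunctor_comp, Ext.mapExactFunctor_mk₀,
    Ext.comp_assoc_of_third_deg_zero]

theorem limit_surj (hκ : ∀ {i j : I} (f : j ⟶ i),
      (L.Q j).map (κ f).hom ≫ (κ' j).hom = (L.d f (C i)).hom ≫ (κ' i).hom)
    (n : ℕ) (i : I) (h : L.Surj n i (C i)) (ξ : Ext C' L.G' n) :
    ∃ (j : I) (x : Ext (C j) (L.G j) n),
      (Ext.mk₀ (κ' j).inv).comp (L.R' x) (zero_add n) = ξ := by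
  obtain ⟨j, f, x, hx⟩ := h ((Ext.mk₀ (κ' i).hom).comp ξ (zero_add n))
  refine ⟨j, (Ext.mk₀ (κ f).inv).comp x (zero_add n), ?_⟩
  rw [R'_precomp, hx, Ext.mk₀_comp_mk₀_assoc, Ext.mk₀_comp_mk₀_assoc, Ext.mk₀_comp_mk₀_assoc]
  have : ((κ' j).inv ≫ (L.Q j).map (κ f).inv ≫ (L.d f (C i)).hom ≫ (κ' i).hom) = 𝟙 _ := by
    rw [← hκ, ← Functor.map_comp_assoc, Iso.inv_hom_id, CategoryTheory.Functor.map_id,
      Category.id_comp, Iso.inv_hom_id]
  simp only [Category.assoc]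
  rw [this, Ext.mk₀_id_comp]

theorem limit_inj (n : ℕ) (i : I) (h : L.Inj n i (C i)) (x : Ext (C i) (L.G i) n)
    (hx : (Ext.mk₀ (κ' i).inv).comp (L.R' x) (zero_add n) = 0) :
    ∃ (j : I) (f : j ⟶ i), L.R f x = 0 := by
  have h1 : L.R' x = 0 := by
    have := congrArg (fun y => (Ext.mk₀ (κ' i).hom).comp y (zero_add n)) hx
    simpa using this
  exact h x h1

theorem limit_surj' (hκ : ∀ {i j : I} (f : j ⟶ i),
      (L.Q j).map (κ f).hom ≫ (κ' j).hom = (L.d f (C i)).hom ≫ (κ' i).hom)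
    (n : ℕ) (i : I) (h : L.Surj n i (C i)) (ξ : Ext C' L.G' n) :
    ∃ (j : I) (x : Ext (C j) (L.G j) n),
      ((Ext.mk₀ (κ' j).inv).comp (x.mapExactFunctor (L.Q j)) (zero_add n)).comp
        (Ext.mk₀ (L.θ' j)) (add_zero n) = ξ := by
  obtain ⟨j, x, hx⟩ := limit_surj L C C' κ κ' hκ n i h ξ
  refine ⟨j, x, ?_⟩
  rw [← hx, LimSysG.R', Ext.comp_assoc_of_third_deg_zero]

theorem limit_inj' (n : ℕ) (i : I) (h : L.Inj n i (C i)) (x : Ext (C i) (L.G i) n)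
    (hx : ((Ext.mk₀ (κ' i).inv).comp (x.mapExactFunctor (L.Q i)) (zero_add n)).comp
        (Ext.mk₀ (L.θ' i)) (add_zero n) = 0) :
    ∃ (j : I) (f : j ⟶ i), ((Ext.mk₀ (κ f).inv).comp (x.mapExactFunctor (L.P f)) (zero_add n)).comp
        (Ext.mk₀ (L.θ f)) (add_zero n) = 0 := by
  rw [Ext.comp_assoc_of_third_deg_zero] at hx
  obtain ⟨j, f, hf⟩ := limit_inj L C C' κ' n i h x hx
  refine ⟨j, f, ?_⟩
  rw [Ext.comp_assoc_of_third_deg_zero]
  exact (congrArg (fun y => (Ext.mk₀ (κ f).inv).comp y (zero_add n)) hf).trans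
    (Ext.comp_zero _ _ _ _ _)

end Abs

variable {L}

theorem inj0_aux (h0 : Deg0Inj L) {i : I} {M : EtCoh.Ab (D.obj i)} (hM : QcZ (D.obj i) M)
    (φ : M ⟶ L.F i) (hφ : (EtCoh.pull (p i)).map φ ≫ L.φ' i = 0) :
    ∃ (j : I) (f : j ⟶ i), (EtCoh.pull (D.map f)).map φ ≫ L.φ f = 0 := by
  obtain ⟨U, hU, hU', ⟨e⟩⟩ := hM
  obtain ⟨j, f, hf⟩ := h0 i U hU hU' (φ.hom.app _ (e.inv.hom.app _ (SiteZU.univ U)))
    ((LimEt.app_eta_eq (p i) φ _ hφ U _).trans (by rw [LimEt.eta_zero, LimEt.app_zero]))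
  refine ⟨j, f, LimEt.pullIso_ext (D.map f) e ?_⟩
  rw [map_comp_app, eta_map, hf]
  exact (LimEt.zero_app rfl _ _).symm

theorem inj0 (h0 : Deg0Inj L) (i : I) (M : EtCoh.Ab (D.obj i)) (hM : QcZ (D.obj i) M) :
    (sys L).Inj 0 i M :=
  inj_zero _ fun φ hφ => inj0_aux h0 hM φ hφ

theorem surj0 (h0 : Deg0Surj L) (i : I) (M : EtCoh.Ab (D.obj i)) (hM : QcZ (D.obj i) M) :
    (sys L).Surj 0 i M := by
  obtain ⟨U, hU, hU', ⟨e⟩⟩ := hM
  refine surj_zero _ fun (ψ : (EtCoh.pull (p i)).obj M ⟶ L.F') => ?_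
  obtain ⟨j, f, s', hs'⟩ := h0 i U hU hU'
    (ψ.hom.app _ (eta (p i) _ U (e.inv.hom.app _ (SiteZU.univ U))))
  obtain ⟨φ, hφ⟩ := LimEt.exists_pullIso (D.map f) e (L.F j) s'
  refine ⟨j, f, φ, ?_⟩
  change (EtCoh.pull (p j)).map φ ≫ L.φ' j = th (p j) (D.map f) (p i) (hp f) M ≫ ψ
  apply LimEt.pullIso_ext₂ (p j) (D.map f) e
  rw [map_comp_app, map_comp_app, eta_map, hφ, hs', th_unit, map_res]

section Main

variable [IsCofiltered I] [∀ {i j} (f : i ⟶ j), IsAffineHom (D.map f)]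
  [∀ i, CompactSpace (D.obj i)] [∀ i, QuasiSeparatedSpace (D.obj i)]
  (hc : IsLimit (coneOf p hp)) (hi : Deg0Inj L) (hs : Deg0Surj L)

include hc hi hs

/-- The limit theorem, for `Ext` out of sheaves with free resolutions. -/
theorem injSurj (n : ℕ) (i : I) (M : EtCoh.Ab (D.obj i)) (hM : ∀ m, FP (QcZ (D.obj i)) m M) :
    (sys L).Inj n i M ∧ (sys L).Surj n i M :=
  LimGen.main (sys L) (fun i => QcZ (D.obj i))
    (fun f M hM => LimEt.qcZ_pull (D.map f) M hM)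
    (fun i M hM => inj0 hi i M hM)
    (fun i M hM => surj0 hs i M hM)
    (fun _ _ n x hM => LimEt.kill₁ hM _ n x)
    (fun _ _ n ξ hM => LimEt.kill₂ p hp hc hM _ n ξ) n i M hM

/-- Every class on the limit comes from a finite stage. -/
theorem exists_hpThen_eq [∀ i, PreservesFiniteLimits (EtCoh.pull (p i))] (n : ℕ)
    (ξ : HH S L.F' n) :
    ∃ (j : I) (x : HH (D.obj j) (L.F j) n), HHmap (L.φ' j) n (HpullCalc.hp (p j) _ n x) = ξ := by
  obtain ⟨i⟩ := IsCofiltered.nonempty (C := I)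
  exact limit_surj' (sys L) (fun i => EtCoh.const (D.obj i) ℤ)
    (EtCoh.const S ℤ) (fun f => EtCore.pullConst (D.map f) ℤ) (fun i => EtCore.pullConst (p i) ℤ)
    (fun f => pullConst_comp (p _) (D.map f) (p _) (hp f) ℤ) n i
    (injSurj hc hi hs n i _ (LimEt.FP_const _)).2 ξ

/-- A class at a finite stage which dies on the limit dies at a finite stage. -/
theorem exists_hpThen_eq_zero [∀ i, PreservesFiniteLimits (EtCoh.pull (p i))]
    [∀ {i j : I} (f : i ⟶ j), PreservesFiniteLimits (EtCoh.pull (D.map f))] (n : ℕ) (j : I)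
    (x : HH (D.obj j) (L.F j) n)
    (hx : HHmap (L.φ' j) n (HpullCalc.hp (p j) _ n x) = 0) :
    ∃ (k : I) (f : k ⟶ j), HHmap (L.φ f) n (HpullCalc.hp (D.map f) _ n x) = 0 := by
  exact limit_inj' (sys L) (fun i => EtCoh.const (D.obj i) ℤ)
    (EtCoh.const S ℤ) (fun f => EtCore.pullConst (D.map f) ℤ) (fun i => EtCore.pullConst (p i) ℤ)
    n j (injSurj hc hi hs n j _ (LimEt.FP_const _)).1 x hx

end Main

end Groth.Agent.Topos.H574.SysEt
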