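import Groth.Agent.Topos.H574.GaFun
import Groth.Agent.Etcore.HpullCalc

/-!
# `EtLim.HGaPull` in terms of `hp` and `gap`
-/

set_option autoImplicit false
universe u
open CategoryTheory CategoryTheory.Limits AlgebraicGeometry Opposite Abelian
open scoped Groth.Agent.Etcore.EtInst
open Groth.Agent.Etcore.EtInst Groth.Agent.Etcore.HpullCalc

namespace Groth.Agent.Topos.H574.GaPull

open GaFun

variable {X Y : Scheme.{u}}

theorem HpullThen_eq (f : X ⟶ Y) [PreservesFiniteLimits (EtCoh.pull f)] (F : EtCoh.Ab Y)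
    {M : EtCoh.Ab X} (α : (EtCoh.pull f).obj F ⟶ M) (n : ℕ) (x : HH Y F n) :
    @Eq (HH X M n) (EtLim.HpullThen f F α n x) (HHmap α n (hp f F n x)) := rfl

theorem HGaPull_eq' (f : X ⟶ Y) [PreservesFiniteLimits (EtCoh.pull f)] (n : ℕ)
    (x : HH Y (EtCoh.Ga Y) n) :
    @Eq (HH X (EtCoh.Ga X) n) (EtLim.HGaPull f n x)
      (HHmap ((EtCoh.pullPushAdj f).counit.app (EtCoh.Ga X)) n
        (hp f _ n (HHmap (EtLim.GaPush f) n x))) := rfl

theorem calc_aux (f : X ⟶ Y) [PreservesFiniteLimits (EtCoh.pull f)] (n : ℕ)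
    (x : HH Y (EtCoh.Ga Y) n) :
    HHmap ((EtCoh.pullPushAdj f).counit.app (EtCoh.Ga X)) n
        (hp f _ n (HHmap (EtLim.GaPush f) n x)) = HHmap (gap f) n (hp f _ n x) := by
  rw [hp_map, ← HHmap_comp, ← gap_eq]

/-- `HGaPull` is pull back followed by `gap`. -/
theorem HGaPull_eq (f : X ⟶ Y) [PreservesFiniteLimits (EtCoh.pull f)] (n : ℕ)
    (x : HH Y (EtCoh.Ga Y) n) :
    @Eq (HH X (EtCoh.Ga X) n) (EtLim.HGaPull f n x) (HHmap (gap f) n (hp f _ n x)) :=
  (HGaPull_eq' f n x).trans (calc_aux f n x)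

end Groth.Agent.Topos.H574.GaPull
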