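import Groth.Agent.Topos.H574.GaFun
import Groth.Agent.Topos.H574.SysEt

/-!
# The cohomology of `G_a` on a limit
-/

set_option autoImplicit false
universe u

open CategoryTheory CategoryTheory.Limits CategoryTheory.Abelian AlgebraicGeometry Opposite
open scoped Groth.Agent.Etcore.EtInst
open Groth.Agent.Etcore

namespace Groth.Agent.Topos.H574.GaSys

open PullCoh LimDeg0 EtInst HpullCalc GaFun SysEt

variable {I : Type u} [SmallCategory I] {D : I ⥤ Scheme.{u}} {S : Scheme.{u}}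
  (p : ∀ i, S ⟶ D.obj i) (hp : ∀ {x y : I} (f : x ⟶ y), p x ≫ D.map f = p y)

/-- The system of sheaves `G_a`. -/
noncomputable def gaSys : Sys p hp where
  F i := EtCoh.Ga (D.obj i)
  F' := EtCoh.Ga S
  φ f := gap (D.map f)
  φ' i := gap (p i)
  comp f g := (gap_comp (D.map g) (D.map f) (D.map (g ≫ f)) (D.map_comp g f).symm).symm
  comp' f := (gap_comp (p _) (D.map f) (p _) (hp f)).symm

variable [IsCofiltered I] [∀ {i j} (f : i ⟶ j), IsAffineHom (D.map f)]
  (hc : IsLimit (coneOf p hp))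

include hc

theorem deg0Inj : Deg0Inj (gaSys p hp) := fun i U _ _ s h => ga_inj p hp hc U s h

theorem deg0Surj : Deg0Surj (gaSys p hp) := fun i U _ _ s => ga_surj p hp hc U s

variable [∀ i, CompactSpace (D.obj i)] [∀ i, QuasiSeparatedSpace (D.obj i)]

theorem exists_ga_eq [∀ i, PreservesFiniteLimits (EtCoh.pull (p i))] (n : ℕ)
    (ξ : HH S (EtCoh.Ga S) n) :
    ∃ (j : I) (x : HH (D.obj j) (EtCoh.Ga (D.obj j)) n),
      HHmap (gap (p j)) n (HpullCalc.hp (p j) _ n x) = ξ :=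
  exists_hpThen_eq hc (deg0Inj p hp hc) (deg0Surj p hp hc) n ξ

theorem exists_ga_eq_zero [∀ i, PreservesFiniteLimits (EtCoh.pull (p i))]
    [∀ {i j : I} (f : i ⟶ j), PreservesFiniteLimits (EtCoh.pull (D.map f))] (n : ℕ) (j : I)
    (x : HH (D.obj j) (EtCoh.Ga (D.obj j)) n)
    (hx : HHmap (gap (p j)) n (HpullCalc.hp (p j) _ n x) = 0) :
    ∃ (k : I) (f : k ⟶ j), HHmap (gap (D.map f)) n (HpullCalc.hp (D.map f) _ n x) = 0 :=
  exists_hpThen_eq_zero hc (deg0Inj p hp hc) (deg0Surj p hp hc) n j x hx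

end Groth.Agent.Topos.H574.GaSys
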