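import Groth.Agent.Etcore.PullCoh
import Groth.Agent.Etcore.LimDeg0
import Groth.Prelude.Def_EtLim

/-!
# Functoriality of the sheaf `G_a` on the small etale site, and its limit in degree zero

* `gap f : f⁻¹ G_a,Y ⟶ G_a,X`, adjoint of `EtLim.GaPush f`.
* `gap_eta`: values on pulled back sections.
* `gap_comp`: the cocycle condition.
* `ga_inj`, `ga_surj`: for a cofiltered limit `S` of schemes `D i` with affine transition maps, and `U` quasi-compact
  (and quasi-separated) etale over `D i`, the functions on `U ×_{D i} S` are the colimit of those on `U ×_{D i} D j`.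
-/

set_option autoImplicit false
universe u
open CategoryTheory CategoryTheory.Limits AlgebraicGeometry Opposite

namespace Groth.Agent.Topos.H574.GaFun

open Groth.Agent.Etcore.PullCoh

variable {W X Y Z : Scheme.{u}}

/-- The restriction `U ×_Y X → U`, underlying `bc f U`. -/
noncomputable abbrev bcFst (f : X ⟶ Y) (U : Y.Etale) : ((EtCoh.bc f).obj U).left ⟶ U.left :=
  pullback.fst U.hom f

/-- A section of `G_a` as a function. -/
noncomputable def fnOf {X : Scheme.{u}} {U : X.Etale} (s : EtCoh.sect (EtCoh.Ga X) U) : Γ(U.left, ⊤) :=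
  ULift.down s

/-- A function as a section of `G_a`. -/
noncomputable def ofFn {X : Scheme.{u}} {U : X.Etale} (s : Γ(U.left, ⊤)) : EtCoh.sect (EtCoh.Ga X) U :=
  ULift.up s

theorem fnOf_ofFn {X : Scheme.{u}} {U : X.Etale} (s : Γ(U.left, ⊤)) :
    fnOf (ofFn (X := X) (U := U) s) = s := rfl

theorem fnOf_injective {X : Scheme.{u}} {U : X.Etale} :
    Function.Injective (fnOf : EtCoh.sect (EtCoh.Ga X) U → Γ(U.left, ⊤)) :=
  ULift.down_injective

theorem fnOf_map {U V : X.Etale} (g : V ⟶ U) (s : EtCoh.sect (EtCoh.Ga X) U) :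
    fnOf ((EtCoh.Ga X).obj.map g.op s) = g.left.appTop.hom (fnOf s) := rfl

/-- The morphism `f⁻¹ G_a,Y ⟶ G_a,X`. -/
noncomputable def gap (f : X ⟶ Y) : (EtCoh.pull f).obj (EtCoh.Ga Y) ⟶ EtCoh.Ga X :=
  ((EtCoh.pullPushAdj f).homEquiv _ _).symm (EtLim.GaPush f)

theorem fnOf_GaPush (f : X ⟶ Y) (U : Y.Etale) (g : EtCoh.sect (EtCoh.Ga Y) U) :
    fnOf (X := X) (U := (EtCoh.bc f).obj U) ((EtLim.GaPush f).hom.app (op U) g) =
      (bcFst f U).appTop.hom (fnOf g) := rfl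

theorem unit_gap (f : X ⟶ Y) :
    (EtCoh.pullPushAdj f).unit.app (EtCoh.Ga Y) ≫ (EtCoh.push f).map (gap f) = EtLim.GaPush f := by
  have h := ((EtCoh.pullPushAdj f).homEquiv _ _).apply_symm_apply (EtLim.GaPush f)
  rw [Adjunction.homEquiv_unit] at h
  exact h

/-- `gap` is the pull back of `GaPush` followed by the counit. -/
theorem gap_eq (f : X ⟶ Y) :
    gap f = (EtCoh.pull f).map (EtLim.GaPush f) ≫ (EtCoh.pullPushAdj f).counit.app (EtCoh.Ga X) :=
  Adjunction.homEquiv_counit _ _ _ _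

/-- The value of `gap` on pulled back sections. -/
theorem gap_eta (f : X ⟶ Y) (U : Y.Etale) (g : EtCoh.sect (EtCoh.Ga Y) U) :
    (gap f).hom.app _ (eta f _ U g) = (EtLim.GaPush f).hom.app (op U) g :=
  congrArg (fun t => t.hom.app (op U) g) (unit_gap f)

theorem fnOf_gap_eta (f : X ⟶ Y) (U : Y.Etale) (g : EtCoh.sect (EtCoh.Ga Y) U) :
    fnOf (X := X) (U := (EtCoh.bc f).obj U) ((gap f).hom.app _ (eta f _ U g)) =
      (bcFst f U).appTop.hom (fnOf g) := by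
  rw [gap_eta]
  exact fnOf_GaPush f U g

theorem gap_comp (f : X ⟶ Y) (t : Y ⟶ Z) (f₀ : X ⟶ Z) (w : f ≫ t = f₀) :
    th f t f₀ w (EtCoh.Ga Z) ≫ gap f₀ = (EtCoh.pull f).map (gap t) ≫ gap f := by
  refine pull_hom_ext₂ f t _ _ fun U g => ?_
  rw [map_comp_app, map_comp_app, th_unit, map_res, gap_eta, eta_map, gap_eta, gap_eta]
  apply fnOf_injective
  rw [fnOf_map, fnOf_GaPush, fnOf_GaPush]
  have h1 : (bcFst f ((EtCoh.bc t).obj U)).appTop.hom
      (fnOf (X := Y) (U := (EtCoh.bc t).obj U) ((EtLim.GaPush t).hom.app (op U) g)) =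
      (bcFst f ((EtCoh.bc t).obj U)).appTop.hom ((bcFst t U).appTop.hom (fnOf g)) :=
    rfl
  refine Eq.trans ?_ h1.symm
  rw [← CommRingCat.comp_apply, ← CommRingCat.comp_apply, ← Scheme.Hom.comp_appTop,
    ← Scheme.Hom.comp_appTop]
  rw [bcComp_left_fst]
  rfl

section Limit

open Groth.Agent.Ega43.LimDesc Groth.Agent.Etcore.LimDeg0

variable {I : Type u} [SmallCategory I] [IsCofiltered I] {D : I ⥤ Scheme.{u}}
  [∀ {i j} (f : i ⟶ j), IsAffineHom (D.map f)]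

section Cone

variable (c : Cone D) (hc : IsLimit c)

include hc in
/-- A function on `E` over `D i` which vanishes on the limit vanishes at a finite stage. -/
theorem fn_inj {i : I} {E : Scheme.{u}} [CompactSpace E] (g₀ : E ⟶ D.obj i) (s : Γ(E, ⊤))
    {P : Scheme.{u}} (a : P ⟶ c.pt) (b : P ⟶ E) (sq : IsPullback b a g₀ (c.π.app i))
    (h : b.appTop.hom s = 0) :
    ∃ (j : I) (f : j ⟶ i), ∀ {P' : Scheme.{u}} (b' : P' ⟶ E) (a' : P' ⟶ D.obj j),
      b' ≫ g₀ = a' ≫ D.map f → b'.appTop.hom s = 0 := by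
  let φ₀ : Over i := Over.mk (𝟙 i)
  have hsq := bcCone_isPullback₀ D c g₀
  obtain ⟨ψ, f, hf⟩ := exists_appTop_map_eq_zero_of_isLimit (bc D g₀) (bcCone D c g₀)
    (bcIsLimit D c g₀ hc) (i := φ₀) ((bcSnd D g₀ φ₀).appTop.hom s) (by
      change ((bcCone D c g₀).π.app φ₀).appTop.hom ((bcSnd D g₀ φ₀).appTop.hom s) = 0
      rw [← CommRingCat.comp_apply, ← Scheme.Hom.comp_appTop, bcCone_π_snd]
      have h1 : sq.lift (bcPtSnd D c g₀) (bcPtFst D c g₀) hsq.w.symm ≫ b = bcPtSnd D c g₀ :=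
        sq.lift_fst _ _ _
      rw [← h1, Scheme.Hom.comp_appTop, CommRingCat.comp_apply, h, map_zero])
  refine ⟨ψ.left, ψ.hom, fun b' a' h' => ?_⟩
  have hf' : ((bc D g₀).map f).appTop.hom ((bcSnd D g₀ φ₀).appTop.hom s) = 0 := hf
  rw [← CommRingCat.comp_apply, ← Scheme.Hom.comp_appTop, Ega43.LimDesc.bc_map_snd] at hf'
  have h2 : (bc_isPullback₀ D g₀ ψ).lift a' b' h'.symm ≫ bcSnd D g₀ ψ = b' :=
    (bc_isPullback₀ D g₀ ψ).lift_snd _ _ _
  rw [← h2, Scheme.Hom.comp_appTop, CommRingCat.comp_apply, hf', map_zero]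

include hc in
/-- A function on the limit comes from a finite stage. -/
theorem fn_surj {i : I} {E : Scheme.{u}} [CompactSpace E] [QuasiSeparatedSpace E]
    (g₀ : E ⟶ D.obj i) {P : Scheme.{u}} (a : P ⟶ c.pt)
    (b : P ⟶ E) (sq : IsPullback b a g₀ (c.π.app i)) (s : Γ(P, ⊤)) :
    ∃ (j : I) (f : j ⟶ i), ∀ {P' : Scheme.{u}} (b' : P' ⟶ E) (a' : P' ⟶ D.obj j),
      b' ≫ g₀ = a' ≫ D.map f → ∃ s' : Γ(P', ⊤),
        ∀ {R : Scheme.{u}} (r : R ⟶ P) (r' : R ⟶ P') (_ : r ≫ b = r' ≫ b')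
          (_ : r ≫ a ≫ c.π.app j = r' ≫ a'), r'.appTop.hom s' = r.appTop.hom s := by
  have hsq := bcCone_isPullback₀ D c g₀
  let e : (bcCone D c g₀).pt ⟶ P := sq.lift (bcPtSnd D c g₀) (bcPtFst D c g₀) hsq.w.symm
  have he1 : e ≫ b = bcPtSnd D c g₀ := sq.lift_fst _ _ _
  have he2 : e ≫ a = bcPtFst D c g₀ := sq.lift_snd _ _ _
  obtain ⟨ψ, t, ht⟩ := exists_appTop_π_eq_of_isLimit (bc D g₀) (bcCone D c g₀)
    (bcIsLimit D c g₀ hc) (e.appTop.hom s)
  refine ⟨ψ.left, ψ.hom, fun {P'} b' a' h' => ?_⟩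
  let β : P' ⟶ (bc D g₀).obj ψ := (bc_isPullback₀ D g₀ ψ).lift a' b' h'.symm
  have hβ1 : β ≫ Ega43.LimDesc.bcFst D g₀ ψ = a' := (bc_isPullback₀ D g₀ ψ).lift_fst _ _ _
  have hβ2 : β ≫ bcSnd D g₀ ψ = b' := (bc_isPullback₀ D g₀ ψ).lift_snd _ _ _
  refine ⟨β.appTop.hom t, fun {R} r r' hr hr' => ?_⟩
  let m : R ⟶ (bcCone D c g₀).pt := hsq.lift (r ≫ a) (r ≫ b) (by
    simp only [Category.assoc]
    rw [sq.w])
  have hm1 : m ≫ bcPtFst D c g₀ = r ≫ a := hsq.lift_fst _ _ _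
  have hm2 : m ≫ bcPtSnd D c g₀ = r ≫ b := hsq.lift_snd _ _ _
  have hm3 : m ≫ e = r := by
    apply sq.hom_ext
    · rw [Category.assoc, he1, hm2]
    · rw [Category.assoc, he2, hm1]
  have hm4 : m ≫ (bcCone D c g₀).π.app ψ = r' ≫ β := by
    apply (bc_isPullback₀ D g₀ ψ).hom_ext
    · rw [Category.assoc, bcCone_π_fst, ← Category.assoc, hm1, Category.assoc, Category.assoc, hβ1,
        ← hr']
    · rw [Category.assoc, bcCone_π_snd, hm2, Category.assoc, hβ2, hr]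
  rw [← CommRingCat.comp_apply, ← Scheme.Hom.comp_appTop, ← hm4, Scheme.Hom.comp_appTop,
    CommRingCat.comp_apply]
  have ht' : ((bcCone D c g₀).π.app ψ).appTop.hom t = e.appTop.hom s := ht.symm
  rw [ht', ← CommRingCat.comp_apply, ← Scheme.Hom.comp_appTop, hm3]

end Cone

variable {S : Scheme.{u}} (p : ∀ i, S ⟶ D.obj i) (hp : ∀ {x y : I} (f : x ⟶ y), p x ≫ D.map f = p y)
  (hc : IsLimit (coneOf p hp))

theorem bc_condition (f : X ⟶ Y) (U : Y.Etale) :
    bcFst f U ≫ U.hom = ((EtCoh.bc f).obj U).hom ≫ f := pullback.condition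

theorem isPullback_bc (f : X ⟶ Y) (U : Y.Etale) :
    IsPullback (bcFst f U) ((EtCoh.bc f).obj U).hom U.hom f := IsPullback.of_hasPullback _ _

include hc in
/-- Injectivity in degree zero. -/
theorem ga_inj {i : I} (U : (D.obj i).Etale) [CompactSpace U.left]
    (s : EtCoh.sect (EtCoh.Ga (D.obj i)) U)
    (h : (gap (p i)).hom.app _ (eta (p i) _ U s) = 0) :
    ∃ (j : I) (f : j ⟶ i), (gap (D.map f)).hom.app _ (eta (D.map f) _ U s) = 0 := by
  obtain ⟨j, f, hf⟩ := fn_inj (coneOf p hp) hc (E := U.left) U.hom (fnOf s) _ _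
    (isPullback_bc (p i) U) (by
      rw [← fnOf_gap_eta, h]
      rfl)
  refine ⟨j, f, fnOf_injective ?_⟩
  rw [fnOf_gap_eta]
  exact hf (bcFst (D.map f) U) _ (bc_condition (D.map f) U)

include hc in
/-- Surjectivity in degree zero. -/
theorem ga_surj {i : I} (U : (D.obj i).Etale) [CompactSpace U.left] [QuasiSeparatedSpace U.left]
    (s : EtCoh.sect (EtCoh.Ga S) ((EtCoh.bc (p i)).obj U)) :
    ∃ (j : I) (f : j ⟶ i) (s' : EtCoh.sect (EtCoh.Ga (D.obj j)) ((EtCoh.bc (D.map f)).obj U)),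
      (gap (p j)).hom.app _ (eta (p j) _ _ s') =
        (EtCoh.Ga S).obj.map (bcComp (p j) (D.map f) (p i) (hp f) U).op s := by
  obtain ⟨j, f, hf⟩ := fn_surj (coneOf p hp) hc (E := U.left) U.hom _ _
    (isPullback_bc (p i) U) (fnOf s)
  obtain ⟨s', h⟩ := hf (bcFst (D.map f) U) _ (bc_condition (D.map f) U)
  refine ⟨j, f, ofFn s', fnOf_injective ?_⟩
  rw [fnOf_gap_eta, fnOf_map, fnOf_ofFn]
  refine h _ _ ?_ ?_
  · exact bcComp_left_fst (p j) (D.map f) (p i) (hp f) U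
  · have h0 : (bcComp (p j) (D.map f) (p i) (hp f) U).left ≫ ((EtCoh.bc (p i)).obj U).hom =
        ((EtCoh.bc (p j)).obj ((EtCoh.bc (D.map f)).obj U)).hom :=
      MorphismProperty.Over.w (bcComp (p j) (D.map f) (p i) (hp f) U)
    have h1 : ((bcComp (p j) (D.map f) (p i) (hp f) U).left ≫ ((EtCoh.bc (p i)).obj U).hom) ≫ p j =
        ((EtCoh.bc (p j)).obj ((EtCoh.bc (D.map f)).obj U)).hom ≫ p j :=
      congrArg (· ≫ p j) h0
    exact (Category.assoc _ _ _).symm.trans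
      (h1.trans (bc_condition (p j) ((EtCoh.bc (D.map f)).obj U)).symm)

end Limit

end Groth.Agent.Topos.H574.GaFun
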