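import Groth.Agent.Etcore.LimExt

/-!
# The abstract limit theorem in all degrees, for families of objects which need not be cartesian

This is a variant of `Etcore.LimData` and `Etcore.LimExt`, with morphisms `θ`, `θ'` in place of isomorphisms.

`LimSysG A B` : a system of abelian categories `A i` indexed by a category `I` (think: `i ↦ Ab (X i)`)
with exact pull back functors `P f : A i ⥤ A j` for `f : j ⟶ i`, a limit stage `B` with exact
`Q i : A i ⥤ B`, coherent isomorphisms, and a compatible family of objects `G i`, `G'`.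

* `R`, `R'` : the induced maps `Ext M (G i) n → Ext (P f M) (G j) n` and
  `Ext M (G i) n → Ext (Q i M) G' n`.
* `Inj`, `Surj` : the two halves of the limit theorem, for `M : A i` in degree `n`.
-/

set_option autoImplicit false

universe w v u u₀ v₀

open CategoryTheory CategoryTheory.Limits CategoryTheory.Abelian
open Groth.Agent.Etcore.LimExt hiding cT dT R_sub R'_add R'_sub R_precomp R'_precomp R_xc R'_xc R_R R'_R R_comp_eq_zero d_xc LiftAt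
  LiftAt.add liftAt_R' LiftAt.trans injStep surjStep main main'
open Groth.Agent.Etcore.LimData (FP)

namespace Groth.Agent.Topos.H574.LimGen

/-- A system of abelian categories with exact pull back functors, a limit stage, and a cartesian
family of objects. -/
structure LimSysG {I : Type u₀} [Category.{v₀} I] (A : I → Type u) [∀ i, Category.{v} (A i)]
    [∀ i, Abelian (A i)] (B : Type u) [Category.{v} B] [Abelian B] where
  P : ∀ {i j : I} (_ : j ⟶ i), A i ⥤ A j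
  Q : ∀ i : I, A i ⥤ B
  addP : ∀ {i j : I} (f : j ⟶ i), (P f).Additive
  addQ : ∀ i : I, (Q i).Additive
  limP : ∀ {i j : I} (f : j ⟶ i), PreservesFiniteLimits (P f)
  limQ : ∀ i : I, PreservesFiniteLimits (Q i)
  colimP : ∀ {i j : I} (f : j ⟶ i), PreservesFiniteColimits (P f)
  colimQ : ∀ i : I, PreservesFiniteColimits (Q i)
  /-- composition -/
  c : ∀ {i j k : I} (f : j ⟶ i) (g : k ⟶ j) (M : A i), (P g).obj ((P f).obj M) ≅ (P (g ≫ f)).obj M
  c_nat : ∀ {i j k : I} (f : j ⟶ i) (g : k ⟶ j) {M N : A i} (φ : M ⟶ N),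
    (P g).map ((P f).map φ) ≫ (c f g N).hom = (c f g M).hom ≫ (P (g ≫ f)).map φ
  d : ∀ {i j : I} (f : j ⟶ i) (M : A i), (Q j).obj ((P f).obj M) ≅ (Q i).obj M
  d_nat : ∀ {i j : I} (f : j ⟶ i) {M N : A i} (φ : M ⟶ N),
    (Q j).map ((P f).map φ) ≫ (d f N).hom = (d f M).hom ≫ (Q i).map φ
  cd : ∀ {i j k : I} (f : j ⟶ i) (g : k ⟶ j) (M : A i),
    (d g ((P f).obj M)).hom ≫ (d f M).hom = (Q k).map (c f g M).hom ≫ (d (g ≫ f) M).hom
  /-- the cartesian family -/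
  G : ∀ i : I, A i
  G' : B
  θ : ∀ {i j : I} (f : j ⟶ i), (P f).obj (G i) ⟶ G j
  θ' : ∀ i : I, (Q i).obj (G i) ⟶ G'
  θ_comp : ∀ {i j k : I} (f : j ⟶ i) (g : k ⟶ j),
    (P g).map (θ f) ≫ θ g = (c f g (G i)).hom ≫ θ (g ≫ f)
  θ'_comp : ∀ {i j : I} (f : j ⟶ i),
    (Q j).map (θ f) ≫ θ' j = (d f (G i)).hom ≫ θ' i

namespace LimSysG

attribute [instance] LimSysG.addP LimSysG.addQ LimSysG.limP LimSysG.limQ LimSysG.colimP LimSysG.colimQ

variable {I : Type u₀} [Category.{v₀} I] {A : I → Type u} [∀ i, Category.{v} (A i)]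
    [∀ i, Abelian (A i)] {B : Type u} [Category.{v} B] [Abelian B] (L : LimSysG A B)
    [∀ i, HasExt.{w} (A i)] [HasExt.{w} B]

/-- Pull back of an Ext class to a later stage. -/
noncomputable def R {i j : I} (f : j ⟶ i) {M : A i} {n : ℕ} (x : Ext M (L.G i) n) :
    Ext ((L.P f).obj M) (L.G j) n :=
  (x.mapExactFunctor (L.P f)).comp (Ext.mk₀ (L.θ f)) (add_zero n)

/-- Pull back of an Ext class to the limit stage. -/
noncomputable def R' {i : I} {M : A i} {n : ℕ} (x : Ext M (L.G i) n) :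
    Ext ((L.Q i).obj M) L.G' n :=
  (x.mapExactFunctor (L.Q i)).comp (Ext.mk₀ (L.θ' i)) (add_zero n)

/-- Injectivity in degree `n` at `M : A i`: a class at stage `i` which dies at the limit dies at a
later stage. -/
def Inj (n : ℕ) (i : I) (M : A i) : Prop :=
  ∀ x : Ext M (L.G i) n, L.R' x = 0 → ∃ (j : I) (f : j ⟶ i), L.R f x = 0

/-- Surjectivity in degree `n` at `M : A i`: a class at the limit comes from a later stage. -/
def Surj (n : ℕ) (i : I) (M : A i) : Prop :=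
  ∀ ξ : Ext ((L.Q i).obj M) L.G' n, ∃ (j : I) (f : j ⟶ i) (x : Ext ((L.P f).obj M) (L.G j) n),
    L.R' x = (Ext.mk₀ (L.d f M).hom).comp ξ (zero_add n)

end LimSysG


/-! ### The system -/

variable {I : Type u₀} [Category.{v₀} I] {A : I → Type u} [∀ i, Category.{v} (A i)]
    [∀ i, Abelian (A i)] {B : Type u} [Category.{v} B] [Abelian B] (L : LimSysG A B)

/-- composition as a natural transformation -/
noncomputable def cT {i j k : I} (f : j ⟶ i) (g : k ⟶ j) : L.P f ⋙ L.P g ⟶ L.P (g ≫ f) where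
  app M := (L.c f g M).hom
  naturality _ _ φ := L.c_nat f g φ

/-- composition with the limit stage as a natural transformation -/
noncomputable def dT {i j : I} (f : j ⟶ i) : L.P f ⋙ L.Q j ⟶ L.Q i where
  app M := (L.d f M).hom
  naturality _ _ φ := L.d_nat f φ

variable [∀ i, HasExt.{w} (A i)] [HasExt.{w} B]

section Basic

variable {i j k : I} (f : j ⟶ i) (g : k ⟶ j) {M M' : A i} {n : ℕ}

omit [HasExt.{w} B] in
lemma R_sub (x y : Ext M (L.G i) n) : L.R f (x - y) = L.R f x - L.R f y := rg_sub _ _ _ _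

lemma R'_add (x y : Ext M (L.G i) n) : L.R' (x + y) = L.R' x + L.R' y := rg_add _ _ _ _
lemma R'_sub (x y : Ext M (L.G i) n) : L.R' (x - y) = L.R' x - L.R' y := rg_sub _ _ _ _

omit [HasExt.{w} B] in
lemma R_precomp (φ : M' ⟶ M) (x : Ext M (L.G i) n) :
    L.R f ((Ext.mk₀ φ).comp x (zero_add n)) =
      (Ext.mk₀ ((L.P f).map φ)).comp (L.R f x) (zero_add n) := rg_precomp _ _ _ _

lemma R'_precomp (φ : M' ⟶ M) (x : Ext M (L.G i) n) :
    L.R' ((Ext.mk₀ φ).comp x (zero_add n)) =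
      (Ext.mk₀ ((L.Q i).map φ)).comp (L.R' x) (zero_add n) := rg_precomp _ _ _ _

omit [HasExt.{w} B] in
lemma R_xc {X₁ X₂ X₃ : A i} {a : X₁ ⟶ X₂} {b : X₂ ⟶ X₃} (h : SE a b) {m : ℕ} (hm : 1 + n = m)
    (x : Ext X₁ (L.G i) n) :
    L.R f ((xc h).comp x hm) = (xc (h.map (L.P f))).comp (L.R f x) hm := rg_xc _ _ _ _ _

lemma R'_xc {X₁ X₂ X₃ : A i} {a : X₁ ⟶ X₂} {b : X₂ ⟶ X₃} (h : SE a b) {m : ℕ} (hm : 1 + n = m)
    (x : Ext X₁ (L.G i) n) :
    L.R' ((xc h).comp x hm) = (xc (h.map (L.Q i))).comp (L.R' x) hm := rg_xc _ _ _ _ _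

omit [HasExt.{w} B] in
lemma R_R [∀ i, EnoughInjectives (A i)] (x : Ext M (L.G i) n) :
    L.R g (L.R f x) = (Ext.mk₀ (L.c f g M).hom).comp (L.R (g ≫ f) x) (zero_add n) :=
  rg_rg (L.P f) (L.θ f) (L.P g) (L.P (g ≫ f)) (cT L f g) (L.θ g) (L.θ (g ≫ f))
    (L.θ_comp f g) x

lemma R'_R [∀ i, EnoughInjectives (A i)] (x : Ext M (L.G i) n) :
    L.R' (L.R f x) = (Ext.mk₀ (L.d f M).hom).comp (L.R' x) (zero_add n) :=
  rg_rg (L.P f) (L.θ f) (L.Q j) (L.Q i) (dT L f) (L.θ' j) (L.θ' i)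
    (L.θ'_comp f) x

omit [HasExt.{w} B] in
/-- vanishing at a composite stage -/
lemma R_comp_eq_zero [∀ i, EnoughInjectives (A i)] (x : Ext M (L.G i) n)
    (h : L.R g (L.R f x) = 0) : L.R (g ≫ f) x = 0 := by
  rw [R_R] at h
  exact mk₀_iso_comp_eq_zero _ _ h

lemma d_xc {X₁ X₂ X₃ : A i} {a : X₁ ⟶ X₂} {b : X₂ ⟶ X₃} (h : SE a b) {m : ℕ} (hm : 1 + n = m)
    (η : Ext ((L.Q i).obj X₁) L.G' n) :
    (xc ((h.map (L.P f)).map (L.Q j))).comp ((Ext.mk₀ (L.d f X₁).hom).comp η (zero_add n)) hm =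
      (Ext.mk₀ (L.d f X₃).hom).comp ((xc (h.map (L.Q i))).comp η hm) (zero_add m) := by
  have : PreservesFiniteLimits (L.P f ⋙ L.Q j) := comp_preservesFiniteLimits _ _
  have : PreservesFiniteColimits (L.P f ⋙ L.Q j) := comp_preservesFiniteColimits _ _
  have key : (xc ((h.map (L.P f)).map (L.Q j))).comp (Ext.mk₀ (L.d f X₁).hom) (add_zero 1) =
      (Ext.mk₀ (L.d f X₃).hom).comp (xc (h.map (L.Q i))) (zero_add 1) :=
    xc_nat h (L.P f ⋙ L.Q j) (L.Q i) (dT L f)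
  refine (Ext.comp_assoc_of_second_deg_zero _ _ _ _).symm.trans ?_
  refine (congrArg (fun t => Ext.comp t η hm) key).trans ?_
  exact Ext.comp_assoc _ _ _ _ _ (by lia)

/-- `ξ` comes from the stage `j`. -/
def LiftAt (ξ : Ext ((L.Q i).obj M) L.G' n) : Prop :=
  ∃ x : Ext ((L.P f).obj M) (L.G j) n, L.R' x = (Ext.mk₀ (L.d f M).hom).comp ξ (zero_add n)

variable {L f g}

lemma LiftAt.add {ξ ξ' : Ext ((L.Q i).obj M) L.G' n} (h : LiftAt L f ξ) (h' : LiftAt L f ξ') :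
    LiftAt L f (ξ + ξ') := by
  obtain ⟨x, hx⟩ := h
  obtain ⟨x', hx'⟩ := h'
  exact ⟨x + x', by rw [R'_add, hx, hx', Ext.comp_add]⟩

variable (L f g)

lemma liftAt_R' [∀ i, EnoughInjectives (A i)] (x : Ext M (L.G i) n) : LiftAt L f (L.R' x) :=
  ⟨L.R f x, R'_R L f x⟩

variable {L f g}

lemma LiftAt.trans {ξ : Ext ((L.Q i).obj M) L.G' n}
    (h : LiftAt L g ((Ext.mk₀ (L.d f M).hom).comp ξ (zero_add n))) : LiftAt L (g ≫ f) ξ := by
  obtain ⟨x, hx⟩ := h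
  refine ⟨(Ext.mk₀ (L.c f g M).inv).comp x (zero_add n), ?_⟩
  rw [R'_precomp, hx, Ext.mk₀_comp_mk₀_assoc, Ext.mk₀_comp_mk₀_assoc, Category.assoc, L.cd,
    ← Category.assoc, ← Functor.map_comp, Iso.inv_hom_id, CategoryTheory.Functor.map_id, Category.id_comp]

end Basic

/-! ### The two steps -/

section Steps

variable {i : I} {X₁ X₂ X₃ : A i} {a : X₁ ⟶ X₂} {b : X₂ ⟶ X₃} (hS : SE a b) {n : ℕ}

include hS in
lemma injStep [∀ i, EnoughInjectives (A i)] (x : Ext X₃ (L.G i) (n + 1))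
    (hx : (Ext.mk₀ b).comp x (zero_add _) = 0) (hx' : L.R' x = 0) (hsurj : L.Surj n i X₂)
    (hinj : ∀ {j : I} (f : j ⟶ i), L.Inj n j ((L.P f).obj X₁)) :
    ∃ (j : I) (f : j ⟶ i), L.R f x = 0 := by
  obtain ⟨y, rfl⟩ := xc_exact₃ hS (add_comm 1 n) x hx
  rw [R'_xc] at hx'
  obtain ⟨w', hw⟩ := xc_exact₁ (hS.map (L.Q i)) (add_comm 1 n) _ hx'
  obtain ⟨j, f, v', hv⟩ := hsurj w'
  obtain ⟨k, g, hg⟩ := hinj f (L.R f y - (Ext.mk₀ ((L.P f).map a)).comp v' (zero_add n)) (by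
    rw [R'_sub, R'_R, R'_precomp, hv, ← hw, Ext.mk₀_comp_mk₀_assoc, Ext.mk₀_comp_mk₀_assoc,
      L.d_nat, sub_self])
  refine ⟨k, g ≫ f, R_comp_eq_zero L f g _ ?_⟩
  rw [R_sub, sub_eq_zero, R_precomp] at hg
  rw [R_xc, R_xc, hg, xc_comp]

include hS in
lemma surjStep (ξ : Ext ((L.Q i).obj X₃) L.G' (n + 1))
    (hξ : (Ext.mk₀ ((L.Q i).map b)).comp ξ (zero_add _) = 0) (hsurj : L.Surj n i X₁) :
    ∃ (k : I) (g : k ⟶ i), LiftAt L g ξ := by
  obtain ⟨η, rfl⟩ := xc_exact₃ (hS.map (L.Q i)) (add_comm 1 n) ξ hξ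
  obtain ⟨k, g, y, hy⟩ := hsurj η
  refine ⟨k, g, (xc (hS.map (L.P g))).comp y (add_comm 1 n), ?_⟩
  rw [R'_xc, hy, d_xc L g hS]

end Steps

/-! ### The main theorem -/

theorem main' [∀ i, EnoughInjectives (A i)]
    (Zs : ∀ i, A i → Prop)
    (hP : ∀ {i j : I} (f : j ⟶ i) (Z : A i), Zs i Z → Zs j ((L.P f).obj Z))
    (inj0 : ∀ (i : I) (Z : A i), Zs i Z → L.Inj 0 i Z)
    (surj0 : ∀ (i : I) (Z : A i), Zs i Z → L.Surj 0 i Z)
    (kill : ∀ (i : I) (Z : A i) (n : ℕ) (x : Ext Z (L.G i) (n + 1)), Zs i Z →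
      ∃ (K Z' : A i) (a : K ⟶ Z') (p : Z' ⟶ Z) (h : a ≫ p = 0), Zs i Z' ∧
        (ShortComplex.mk a p h).ShortExact ∧ (∀ m, FP (Zs i) m K) ∧
        (Ext.mk₀ p).comp x (zero_add _) = 0)
    (kill' : ∀ (i : I) (Z : A i) (n : ℕ) (ξ : Ext ((L.Q i).obj Z) L.G' (n + 1)), Zs i Z →
      ∃ (j : I) (f : j ⟶ i) (K Z' : A j) (a : K ⟶ Z') (p : Z' ⟶ (L.P f).obj Z) (h : a ≫ p = 0),
        Zs j Z' ∧ (ShortComplex.mk a p h).ShortExact ∧ (∀ m, FP (Zs j) m K) ∧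
        (Ext.mk₀ ((L.Q j).map p ≫ (L.d f Z).hom)).comp ξ (zero_add _) = 0)
    (n : ℕ) : ∀ (i : I) (M : A i), (FP (Zs i) n M → L.Inj n i M) ∧
      (FP (Zs i) (n + 1) M → L.Surj n i M) := by
  -- generators have resolutions of all lengths
  have hgen : ∀ (i : I) (Z : A i), Zs i Z → ∀ m, FP (Zs i) m Z := by
    intro i Z hZ m
    obtain ⟨K, Z', a, p, h, hZ', hS, hK, -⟩ := kill i Z 0 0 hZ
    cases m with
    | zero => exact ⟨Z, 𝟙 Z, hZ, inferInstance⟩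
    | succ m => exact ⟨K, Z', a, p, h, hZ', hS, hK m⟩
  -- the common part of the surjectivity step
  have hlift : ∀ (n : ℕ) (i : I) (M K Z : A i) (a : K ⟶ Z) (p : Z ⟶ M) (_ : SE a p)
      (ξ : Ext ((L.Q i).obj M) L.G' n)
      (_ : L.Surj n i Z) (_ : ∀ {j : I} (f : j ⟶ i), L.Inj n j ((L.P f).obj K)),
      ∃ (j k : I) (f : j ⟶ i) (g : k ⟶ j)
        (z : Ext ((L.P g).obj ((L.P f).obj M)) (L.G k) n),
        (Ext.mk₀ ((L.Q k).map ((L.P g).map ((L.P f).map p)))).comp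
          ((Ext.mk₀ (L.d g ((L.P f).obj M)).hom).comp
            ((Ext.mk₀ (L.d f M).hom).comp ξ (zero_add _)) (zero_add _) - L.R' z)
            (zero_add _) = 0 := by
    intro n i M K Z a p hS ξ hs hi
    obtain ⟨j, f, x, hx⟩ := hs ((Ext.mk₀ ((L.Q i).map p)).comp ξ (zero_add _))
    obtain ⟨k, g, hg⟩ := hi f ((Ext.mk₀ ((L.P f).map a)).comp x (zero_add _)) (by
        rw [R'_precomp, hx, Ext.mk₀_comp_mk₀_assoc, Ext.mk₀_comp_mk₀_assoc, L.d_nat,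
          Category.assoc, ← Functor.map_comp, hS.zero, Functor.map_zero, comp_zero, Ext.mk₀_zero,
          Ext.zero_comp])
    rw [R_precomp] at hg
    obtain ⟨z, hz⟩ := xc_exact₂ ((hS.map (L.P f)).map (L.P g)) (L.R g x) hg
    refine ⟨j, k, f, g, z, ?_⟩
    have e1 : (Ext.mk₀ ((L.Q k).map ((L.P g).map ((L.P f).map p)))).comp (L.R' z)
        (zero_add _) = L.R' (L.R g x) := by rw [← R'_precomp, hz]
    have e2 : L.R' (L.R g x) = (Ext.mk₀ ((L.Q k).map ((L.P g).map ((L.P f).map p)))).comp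
        ((Ext.mk₀ (L.d g ((L.P f).obj M)).hom).comp
          ((Ext.mk₀ (L.d f M).hom).comp ξ (zero_add _)) (zero_add _)) (zero_add _) := by
      rw [R'_R, hx]
      simp only [Ext.mk₀_comp_mk₀_assoc]
      rw [← L.d_nat f, ← Category.assoc, ← L.d_nat g, Category.assoc]
    rw [sub_eq_add_neg, Ext.comp_add, Ext.comp_neg, e1, ← e2, add_neg_cancel]
  induction n with
  | zero =>
    have hI : ∀ (i : I) (M : A i), FP (Zs i) 0 M → L.Inj 0 i M := by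
      rintro i M ⟨Z, p, hZ, hp⟩ x hx
      obtain ⟨j, f, hf⟩ := inj0 i Z hZ ((Ext.mk₀ p).comp x (zero_add 0)) (by
        rw [R'_precomp, hx, Ext.comp_zero])
      rw [R_precomp] at hf
      exact ⟨j, f, eq_zero_of_epi ((L.P f).map p) _ hf⟩
    refine fun i M => ⟨hI i M, ?_⟩
    rintro ⟨K, Z, a, p, h, hZ, hS, hK⟩ ξ
    have hS' : SE a p := ⟨h, hS⟩
    obtain ⟨j, k, f, g, z, hz⟩ := hlift 0 i M K Z a p hS' ξ (surj0 i Z hZ)
      (fun f => hI _ _ (FP.map (L.P f) (hP f) 0 K hK))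
    have := hS'.epi
    have key := eq_zero_of_epi _ _ hz
    rw [sub_eq_zero] at key
    exact ⟨k, g ≫ f, LiftAt.trans ⟨z, key.symm⟩⟩
  | succ n ih =>
    -- generators
    have hIZ : ∀ (i : I) (Z : A i), Zs i Z → L.Inj (n + 1) i Z := by
      intro i Z hZ x hx
      obtain ⟨K, Z', a, p, h, hZ', hS, hK, hk⟩ := kill i Z n x hZ
      exact injStep L ⟨h, hS⟩ x hk hx ((ih i Z').2 (hgen i Z' hZ' _))
        (fun f => (ih _ _).1 (FP.map (L.P f) (hP f) n K (hK n)))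
    have hSZ : ∀ (i : I) (Z : A i), Zs i Z → L.Surj (n + 1) i Z := by
      intro i Z hZ ξ
      obtain ⟨j, f, K, Z', a, p, h, hZ', hS, hK, hk⟩ := kill' i Z n ξ hZ
      rw [← Ext.mk₀_comp_mk₀_assoc] at hk
      obtain ⟨k, g, hg⟩ := surjStep L ⟨h, hS⟩ _ hk ((ih j K).2 (hK (n + 1)))
      exact ⟨k, g ≫ f, LiftAt.trans hg⟩
    have hI : ∀ (i : I) (M : A i), FP (Zs i) (n + 1) M → L.Inj (n + 1) i M := by
      rintro i M ⟨K, Z, a, p, h, hZ, hS, hK⟩ x hx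
      have hS' : SE a p := ⟨h, hS⟩
      obtain ⟨j, f, hf⟩ := hIZ i Z hZ ((Ext.mk₀ p).comp x (zero_add _)) (by
        rw [R'_precomp, hx, Ext.comp_zero])
      rw [R_precomp] at hf
      obtain ⟨k, g, hg⟩ := injStep L (hS'.map (L.P f)) (L.R f x) hf (by
        rw [R'_R, hx, Ext.comp_zero]) ((ih j _).2 (hgen j _ (hP f Z hZ) _))
        (fun g => (ih _ _).1 (FP.map (L.P g) (hP g) n _ (FP.map (L.P f) (hP f) n K hK)))
      exact ⟨k, g ≫ f, R_comp_eq_zero L f g x hg⟩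
    refine fun i M => ⟨hI i M, ?_⟩
    rintro ⟨K, Z, a, p, h, hZ, hS, hK⟩ ξ
    have hS' : SE a p := ⟨h, hS⟩
    obtain ⟨j, k, f, g, z, hz⟩ := hlift (n + 1) i M K Z a p hS' ξ (hSZ i Z hZ)
      (fun f => hI _ _ (FP.map (L.P f) (hP f) _ K hK))
    obtain ⟨l, h', hl⟩ := surjStep L ((hS'.map (L.P f)).map (L.P g)) _ hz
      ((ih k _).2 (FP.map (L.P g) (hP g) _ _ (FP.map (L.P f) (hP f) _ K hK)))
    have hl2 := hl.add (liftAt_R' L h' z)
    rw [sub_add_cancel] at hl2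
    exact ⟨l, h' ≫ g ≫ f, by
      rw [← Category.assoc]
      exact LiftAt.trans (LiftAt.trans hl2)⟩

/-- The abstract limit theorem in all degrees. -/
theorem main [IsCofiltered I] [∀ i, EnoughInjectives (A i)] [EnoughInjectives B]
    (Zs : ∀ i, A i → Prop)
    (hP : ∀ {i j : I} (f : j ⟶ i) (Z : A i), Zs i Z → Zs j ((L.P f).obj Z))
    (inj0 : ∀ (i : I) (Z : A i), Zs i Z → L.Inj 0 i Z)
    (surj0 : ∀ (i : I) (Z : A i), Zs i Z → L.Surj 0 i Z)
    (kill : ∀ (i : I) (Z : A i) (n : ℕ) (x : Ext Z (L.G i) (n + 1)), Zs i Z →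
      ∃ (K Z' : A i) (a : K ⟶ Z') (p : Z' ⟶ Z) (h : a ≫ p = 0), Zs i Z' ∧
        (ShortComplex.mk a p h).ShortExact ∧ (∀ m, FP (Zs i) m K) ∧
        (Ext.mk₀ p).comp x (zero_add _) = 0)
    (kill' : ∀ (i : I) (Z : A i) (n : ℕ) (ξ : Ext ((L.Q i).obj Z) L.G' (n + 1)), Zs i Z →
      ∃ (j : I) (f : j ⟶ i) (K Z' : A j) (a : K ⟶ Z') (p : Z' ⟶ (L.P f).obj Z) (h : a ≫ p = 0),
        Zs j Z' ∧ (ShortComplex.mk a p h).ShortExact ∧ (∀ m, FP (Zs j) m K) ∧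
        (Ext.mk₀ ((L.Q j).map p ≫ (L.d f Z).hom)).comp ξ (zero_add _) = 0)
    (n : ℕ) (i : I) (M : A i) (hM : ∀ m, FP (Zs i) m M) : L.Inj n i M ∧ L.Surj n i M :=
  ⟨(main' L Zs hP inj0 surj0 kill kill' n i M).1 (hM n),
    (main' L Zs hP inj0 surj0 kill kill' n i M).2 (hM (n + 1))⟩

end Groth.Agent.Topos.H574.LimGen
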